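import Cfsg.Agent.Lib.Helper9.TC2Cox
import Cfsg.Agent.Lib.Helper9.TC2Aux
import Cfsg.Agent.Lib.Helper9.TC2BSGS
import Cfsg.Agent.Lib.Helper9.TC2Pack
import Cfsg.Agent.Lib.Helper9.TCData.S62CX.P0

set_option autoImplicit false
set_option maxRecDepth 100000

namespace Cfsg.Agent.Helper9.TCData.S62CX
open Cfsg.Agent.Helper9.TC2
/-- The rotated relators. -/
noncomputable def rotT : WT := (WT.node 1 (WT.leaf [0, 0, 0, 0, 0]) (WT.node 2 (WT.leaf [2]) (WT.leaf [1, 1, 3, 0, 3, 3, 1, 1, 3, 0, 3, 3])))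

/-- The sources of the rotated relators: relator and rotation. -/
def rotSrc : List (ℕ × ℕ) := [(0, 1), (14, 0), (2, 8)]

/-- The relators, as words of columns. -/
def relWords : List (List ℕ) := [[0, 0, 0, 0, 0], [2, 2, 2, 2, 2, 2, 2], [3, 3, 1, 1, 3, 0, 3, 3, 1, 1, 3, 0], [3, 1, 3, 1, 3, 1, 3, 1, 3, 1, 3, 1], [3, 3, 1, 1, 3, 0, 3, 3, 0, 0, 0, 3, 0], [3, 3, 1, 3, 1, 1, 2, 0, 3, 1, 3, 1, 2, 1, 3, 1], [3, 3, 1, 3, 0, 3, 1, 1, 3, 3, 1, 3, 0, 3, 1, 1], [3, 3, 0, 0, 2, 1, 2, 1, 3, 3, 0, 0, 2, 1, 2, 1], [3, 1, 1, 3, 0, 2, 1, 1, 3, 1, 1, 3, 0, 2, 0, 0, 0], [3, 1, 1, 3, 0, 2, 1, 1, 3, 0, 0, 0, 3, 0, 2, 1, 1], [3, 3, 1, 3, 1, 3, 0, 2, 0, 2, 1, 3, 3, 0, 2, 0, 2, 1], [3, 3, 1, 1, 2, 2, 0, 2, 0, 3, 3, 0, 3, 3, 1, 2, 0, 0], [3, 3, 1, 2, 0, 2, 0, 3, 1, 3, 3, 1, 2, 0, 2, 0, 3, 1], [3,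 1, 3, 1, 1, 3, 1, 2, 0, 3, 1, 3, 1, 1, 3, 1, 2, 0], [2]]

/-- The words checked on the permutation model. -/
def mwords : List (List ℕ) := [[0, 0, 0, 0, 0], [2, 2, 2, 2, 2, 2, 2], [3, 3, 1, 1, 3, 0, 3, 3, 1, 1, 3, 0], [3, 1, 3, 1, 3, 1, 3, 1, 3, 1, 3, 1], [3, 3, 1, 1, 3, 0, 3, 3, 0, 0, 0, 3, 0], [3, 3, 1, 3, 1, 1, 2, 0, 3, 1, 3, 1, 2, 1, 3, 1], [3, 3, 1, 3, 0, 3, 1, 1, 3, 3, 1, 3, 0, 3, 1, 1], [3, 3, 0, 0, 2, 1, 2, 1, 3, 3, 0, 0, 2, 1, 2, 1], [3, 1, 1, 3, 0, 2, 1, 1, 3, 1, 1, 3, 0, 2, 0, 0, 0], [3, 1, 1, 3, 0, 2, 1, 1, 3, 0, 0, 0, 3, 0, 2, 1, 1], [3, 3, 1, 3, 1, 3, 0, 2, 0, 2, 1, 3, 3, 0, 2, 0, 2, 1], [3, 3, 1, 1, 2, 2, 0, 2, 0, 3, 3, 0, 3, 3, 1, 2, 0, 0], [3, 3, 1, 2, 0, 2, 0, 3, 1, 3, 3, 1, 2, 0, 2, 0, 3, 1], [3, 1, 3, 1, 1, 3, 1, 2, 0, 3, 1, 3, 1, 1, 3, 1, 2, 0], [2]]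

/-- The table. -/
noncomputable def tab : Tab where
  k := 4
  inv := fun c => (bif Nat.beq c 0 then 1 else (bif Nat.beq c 1 then 0 else (bif Nat.beq c 2 then 3 else (bif Nat.beq c 3 then 2 else c))))
  N := 8
  n := 1
  Tmax := 27
  wn := 4
  mn := 0xf
  subs := []
  rot := fun i => rotT.getF i
  ent := fun c i => bget2 entT_0 1 10 9 0x1ff 1023 c i
  cer := fun c i => bget2 cerT_0 1 11 6 0x3f 2047 c i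
  tau := fun c i => bget2 tauT_0 1 14 1 0x1 16383 c i
  lk := fun i => bget lkT_0 10 9 0x1ff 1023 i
  lc := fun i => bget lcT_0 10 11 0x7ff 1023 i
  pn := fun i => bget pnT_0 11 6 0x3f 2047 i
  cls := fun i => bget clsT_0 14 1 0x1 16383 i
  rep := fun i => bget repT_0 14 1 0x1 16383 i

end Cfsg.Agent.Helper9.TCData.S62CX
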